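import Mathlib

set_option autoImplicit false

namespace Cfsg.Agent.Shintani

variable {X : Type*} [Group X]

/-- `σ^i` composed with `σ^j`, applied. -/
theorem pow_apply_add (σ : MulAut X) (i j : ℕ) (x : X) : (σ ^ (i + j)) x = (σ ^ i) ((σ ^ j) x) := by
  rw [pow_add, MulAut.mul_apply]

theorem sigma_pow_comm (σ : MulAut X) (i : ℕ) (x : X) : σ ((σ ^ i) x) = (σ ^ i) (σ x) := by
  have h : σ * σ ^ i = σ ^ i * σ := (Commute.pow_right (Commute.refl σ) i).eq
  exact DFunLike.congr_fun h x

theorem norm_eq (σ : MulAut X) (g a : X) (ha : g = a * (σ a)⁻¹) (d : ℕ) :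
    ((List.range d).map (fun i => (σ ^ i) g)).prod = a * ((σ ^ d) a)⁻¹ := by
  induction d with
  | zero => simp
  | succ d ih =>
    rw [List.range_succ, List.map_append, List.prod_append, ih]
    simp only [List.map_cons, List.map_nil, List.prod_singleton]
    rw [ha, map_mul, map_inv, pow_succ, MulAut.mul_apply]
    group

theorem mem_fix_iff (σ : MulAut X) (x : X) :
    x ∈ (MulEquiv.toMonoidHom σ).eqLocus (MonoidHom.id X) ↔ σ x = x := by
  rfl

end Cfsg.Agent.Shintani
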